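import Groth.Agent.Lib.AlgStack.Comp
import Groth.Agent.Lib.AlgStack.BasedBasic
import Groth.Agent.Lib.Fibred.Descent
import Groth.Agent.H14.Stab.Aut
import Groth.Prelude.Def_StGerb

/-!
# Sections of a space representing the self-product of a section as automorphisms
-/

set_option autoImplicit false
set_option backward.isDefEq.respectTransparency false
set_option backward.isDefEq.respectTransparency.types false

universe u

open CategoryTheory CategoryTheory.Limits AlgebraicGeometry Opposite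

noncomputable section

namespace Groth.Agent.H14.SpGerbe

open Groth.Agent.Lib.AlgSpace
open Groth.Agent.Lib.AlgStack
open FibCat (IsEquivOver IsFibGrpd fp fpFst)
open AlgSt (ofSp ofSpMap)
open AlgSp (Sp yon)
open BasedBasic

variable {S : Scheme.{u}} {𝒳 : AlgSt.Cat S} {B : Sp S}

/-- The point of a map from a scheme. -/
abbrev el {T : Over S} (b : (yon S).obj T ⟶ B) : (ofSp B).obj := ⟨T, secEquiv T b⟩

/-- The map from a scheme of a point. -/
abbrev sy (u : (ofSp B).obj) : (yon S).obj u.base ⟶ B := (secEquiv u.base).symm u.sec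

/-- Morphisms of points from equations of maps. -/
def elMap {T' T : Over S} {b' : (yon S).obj T' ⟶ B} {b : (yon S).obj T ⟶ B} (f : T' ⟶ T)
    (w : (yon S).map f ≫ b = b') : el b' ⟶ el b :=
  ⟨f, (secEquiv_map f b).symm.trans (congrArg (secEquiv T') w)⟩

theorem sy_map {u' u : (ofSp B).obj} (k : u' ⟶ u) : (yon S).map k.hom ≫ sy u = sy u' := by
  apply (secEquiv u'.base).injective
  rw [secEquiv_map, Equiv.apply_symm_apply, Equiv.apply_symm_apply]
  exact k.map_sec

/-- Transport of verticality. -/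
theorem lift_of_eq {z : 𝒳.obj} {V : Over S} (e : 𝒳.p.obj z = V) (θ : z ⟶ z)
    (h : 𝒳.p.IsHomLift (𝟙 (𝒳.p.obj z)) θ) : 𝒳.p.IsHomLift (𝟙 V) θ := by
  subst e; exact h

/-- Vertical morphisms of points are equalities on the bases. -/
theorem hom_of_vertical {u v : (ofSp B).obj} (m : u ⟶ v) {T : Over S}
    (hm : (ofSp B).p.IsHomLift (𝟙 T) m) :
    m.hom = eqToHom ((IsHomLift.domain_eq (ofSp B).p (𝟙 T) m).trans
      (IsHomLift.codomain_eq (ofSp B).p (𝟙 T) m).symm) := by
  have h := IsHomLift.fac' (ofSp B).p (𝟙 T) m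
  change m.hom = _ at h
  rw [h]
  simp

variable {x : ofSp B ⥤ᵇ 𝒳} (π : 𝒳 ⥤ᵇ ofSp B) (ex : BasedFunctor.comp x π ≅ BasedFunctor.id (ofSp B))

/-- The identification of the two projections of an object of the self-product. -/
def wIso (o : (fp x x).obj) : o.obj.fst ≅ o.obj.snd :=
  (appIso ex o.obj.fst).symm ≪≫ π.toFunctor.mapIso o.obj.iso ≪≫ appIso ex o.obj.snd

include π ex in
theorem fst_eq_snd (o : (fp x x).obj) : o.obj.fst.base = o.obj.snd.base :=
  (FibProd.snd_obj o).symm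

variable {A : AlgSp.Space S} {bA : A.obj ⟶ B} {t : ofSp A.obj ⥤ᵇ fp x x}
  (β : BasedFunctor.comp t (fpFst x x) ≅ ofSpMap bA)

variable (bA) in
/-- The sections over a point. -/
abbrev Sc (u : (ofSp B).obj) := {c : (yon S).obj u.base ⟶ A.obj // c ≫ bA = sy u}

variable {π ex}

/-- The point of a section. -/
abbrev pnt {u : (ofSp B).obj} (c : Sc bA u) : (ofSp A.obj).obj := el c.1

theorem map_pnt {u : (ofSp B).obj} (c : Sc bA u) : (ofSpMap bA).obj (pnt c) = u := by
  obtain ⟨T, s⟩ := u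
  change (⟨T, bA.hom.app (op T) (secEquiv T c.1)⟩ : (ofSp B).obj) = ⟨T, s⟩
  rw [← secEquiv_comp, c.2]
  exact congrArg _ ((secEquiv T).apply_symm_apply s)

/-- The first component of a section. -/
def q₁ {u : (ofSp B).obj} (c : Sc bA u) : u ≅ (t.obj (pnt c)).obj.fst :=
  eqToIso (map_pnt c).symm ≪≫ (appIso β (pnt c)).symm

variable (π ex)

/-- The second component of a section. -/
def q₂ {u : (ofSp B).obj} (c : Sc bA u) : u ≅ (t.obj (pnt c)).obj.snd :=
  q₁ β c ≪≫ wIso π ex (t.obj (pnt c))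

/-- The endomorphism of a section. -/
def endo {u : (ofSp B).obj} (c : Sc bA u) : x.obj u ⟶ x.obj u :=
  x.map (q₁ β c).hom ≫ (t.obj (pnt c)).obj.iso.hom ≫ x.map (q₂ π ex β c).inv

theorem comp_eqToHom_hom {u v : (ofSp B).obj} (e : u = v) : (eqToHom e).hom = eqToHom (congrArg (·.base) e) := by
  subst e; rfl

theorem q₁_hom {u : (ofSp B).obj} (c : Sc bA u) :
    (q₁ β c).hom.hom = eqToHom ((t.w_obj (pnt c)).symm : u.base = (t.obj (pnt c)).obj.fst.base) := by
  have h : (ofSp B).p.IsHomLift (𝟙 u.base) (appIso β (pnt c)).hom := appIso_isHomLift β (pnt c)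
  have h' : (ofSp B).p.IsHomLift (𝟙 u.base) (appIso β (pnt c)).inv := IsHomLift.lift_id_inv _ _ _
  change (eqToHom (map_pnt c).symm ≫ (appIso β (pnt c)).inv).hom = _
  rw [Stk.EltObj.comp_hom, comp_eqToHom_hom (map_pnt c).symm, hom_of_vertical _ h']
  simp

theorem wIso_hom (o : (fp x x).obj) : (wIso π ex o).hom.hom = eqToHom (fst_eq_snd π ex o) := by
  have h1 : (ofSp B).p.IsHomLift (𝟙 o.obj.fst.base) (appIso ex o.obj.fst).inv := by
    have : (ofSp B).p.IsHomLift (𝟙 o.obj.fst.base) (appIso ex o.obj.fst).hom := appIso_isHomLift ex o.obj.fst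
    exact IsHomLift.lift_id_inv _ _ _
  have h2 : (ofSp B).p.IsHomLift (𝟙 o.obj.fst.base) (π.map o.obj.iso.hom) :=
    haveI : 𝒳.p.IsHomLift (𝟙 o.obj.fst.base) o.obj.iso.hom := o.property
    BasedFunctor.preserves_isHomLift π _ _
  have h3 : (ofSp B).p.IsHomLift (𝟙 o.obj.snd.base) (appIso ex o.obj.snd).hom := appIso_isHomLift ex o.obj.snd
  change ((appIso ex o.obj.fst).inv ≫ π.map o.obj.iso.hom ≫ (appIso ex o.obj.snd).hom).hom = _
  rw [Stk.EltObj.comp_hom, Stk.EltObj.comp_hom, hom_of_vertical _ h1, hom_of_vertical _ h2,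
    hom_of_vertical _ h3]
  simp

theorem q₂_hom {u : (ofSp B).obj} (c : Sc bA u) :
    (q₂ π ex β c).hom.hom =
      eqToHom (((t.w_obj (pnt c)).symm.trans (fst_eq_snd π ex _)) : u.base = (t.obj (pnt c)).obj.snd.base) := by
  change ((q₁ β c).hom ≫ (wIso π ex _).hom).hom = _
  rw [Stk.EltObj.comp_hom, q₁_hom, wIso_hom]
  simp

theorem map_endo {u : (ofSp B).obj} (c : Sc bA u) : 𝒳.p.map (endo π ex β c) = 𝟙 _ := by
  have h1 : 𝒳.p.IsHomLift (𝟙 u.base) (x.map (q₁ β c).hom) := by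
    have : (ofSp B).p.IsHomLift (𝟙 u.base) (q₁ β c).hom :=
      IsHomLift.of_fac' _ _ _ rfl (t.w_obj (pnt c)) (by
        change (q₁ β c).hom.hom = _
        rw [q₁_hom]; simp)
    infer_instance
  have h2 : 𝒳.p.IsHomLift (𝟙 u.base) (t.obj (pnt c)).obj.iso.hom := by
    have := (t.obj (pnt c)).property
    have e : (ofSp B).p.obj (t.obj (pnt c)).obj.fst = u.base := t.w_obj (pnt c)
    rw [← e]; exact this
  have h3 : 𝒳.p.IsHomLift (𝟙 u.base) (x.map (q₂ π ex β c).inv) := by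
    have : (ofSp B).p.IsHomLift (𝟙 u.base) (q₂ π ex β c).hom :=
      IsHomLift.of_fac' _ _ _ rfl ((fst_eq_snd π ex _).symm.trans (t.w_obj (pnt c))) (by
        change (q₂ π ex β c).hom.hom = _
        rw [q₂_hom]; simp)
    have : (ofSp B).p.IsHomLift (𝟙 u.base) (q₂ π ex β c).inv := IsHomLift.lift_id_inv _ _ _
    infer_instance
  have : 𝒳.p.IsHomLift (𝟙 u.base) (endo π ex β c) := by
    unfold endo; infer_instance
  rw [IsHomLift.fac' 𝒳.p (𝟙 u.base) (endo π ex β c)]
  simp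

variable (h : IsFibGrpd 𝒳.p)

/-- The automorphism of a section. -/
def aut {u : (ofSp B).obj} (c : Sc bA u) : Gerb.AutO (x.obj u) :=
  Stab.mkAut h (endo π ex β c) (map_endo π ex β c)

/-- Restriction of sections. -/
def restr {u' u : (ofSp B).obj} (k : u' ⟶ u) (c : Sc bA u) : Sc bA u' :=
  ⟨(yon S).map k.hom ≫ c.1, by rw [Category.assoc, c.2, sy_map]⟩

theorem aut_natural {u' u : (ofSp B).obj} (k : u' ⟶ u) (c : Sc bA u) :
    (aut π ex β h (restr k c)).hom.1 ≫ x.map k = x.map k ≫ (aut π ex β h c).hom.1 := by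
  change endo π ex β (restr k c) ≫ x.map k = x.map k ≫ endo π ex β c
  let m : pnt (restr k c) ⟶ pnt c := elMap k.hom rfl
  let M := t.map m
  have hfst : M.hom.fst.hom = eqToHom (t.w_obj (pnt (restr k c))) ≫ k.hom ≫ eqToHom (t.w_obj (pnt c)).symm :=
    CategoryTheory.Functor.congr_hom (BasedFunctor.comp t (fpFst x x)).w m
  have hsnd : M.hom.snd.hom = eqToHom ((fst_eq_snd π ex _).symm.trans (t.w_obj (pnt (restr k c)))) ≫ k.hom ≫
      eqToHom ((fst_eq_snd π ex _).symm.trans (t.w_obj (pnt c))).symm :=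
    CategoryTheory.Functor.congr_hom (BasedFunctor.comp t (FibCat.fpSnd x x)).w m
  have e1 : (q₁ β (restr k c)).hom ≫ M.hom.fst = k ≫ (q₁ β c).hom := by
    apply Stk.EltObj.hom_ext
    simp only [Stk.EltObj.comp_hom, q₁_hom, hfst]
    simp
  have e2 : (q₂ π ex β (restr k c)).inv ≫ k = M.hom.snd ≫ (q₂ π ex β c).inv := by
    rw [Iso.inv_comp_eq, ← Category.assoc, Iso.eq_comp_inv]
    apply Stk.EltObj.hom_ext
    simp only [Stk.EltObj.comp_hom, q₂_hom, hsnd]
    simp
  have w : x.map M.hom.fst ≫ (t.obj (pnt c)).obj.iso.hom =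
      (t.obj (pnt (restr k c))).obj.iso.hom ≫ x.map M.hom.snd := M.hom.w
  simp only [endo, Category.assoc]
  rw [← Functor.map_comp x.toFunctor _ k, e2, Functor.map_comp, ← reassoc_of% w,
    ← Functor.map_comp_assoc, e1, Functor.map_comp_assoc]

include h in
/-- An automorphism restricts in at most one way. -/
theorem aut_ext {u' u : (ofSp B).obj} (k : u' ⟶ u) (a b : Gerb.AutO (x.obj u'))
    (hab : a.hom.1 ≫ x.map k = b.hom.1 ≫ x.map k) : a = b :=
  Aut.ext (Functor.Fiber.hom_ext (AutSpace.hom_ext_cart h _ _ (x.map k)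
    ((AutSpace.map_autO _).trans (AutSpace.map_autO _).symm) hab))

theorem aut_injective (hE : IsEquivOver t) {u : (ofSp B).obj} :
    Function.Injective (aut π ex β h (u := u)) := by
  intro c c' hcc
  have hn : endo π ex β c = endo π ex β c' := congrArg (fun a => a.hom.1) hcc
  apply Subtype.ext
  have := BasedBasic.IsEquivOver.full hE
  let M : t.obj (pnt c) ⟶ t.obj (pnt c') :=
    FibProd.homMk ((q₁ β c).inv ≫ (q₁ β c').hom) ((q₂ π ex β c).inv ≫ (q₂ π ex β c').hom) (by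
      rw [← cancel_epi (x.map (q₁ β c).hom), ← cancel_mono (x.map (q₂ π ex β c').inv)]
      simp only [Functor.map_comp, Category.assoc]
      rw [← Functor.map_comp x.toFunctor (q₂ π ex β c').hom, Iso.hom_inv_id,
        CategoryTheory.Functor.map_id, Category.comp_id,
        ← Functor.map_comp_assoc x.toFunctor (q₁ β c).hom (q₁ β c).inv, Iso.hom_inv_id,
        CategoryTheory.Functor.map_id, Category.id_comp]
      exact hn.symm)
  obtain ⟨n, hn'⟩ := t.toFunctor.map_surjective M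
  have h3 : n.hom = 𝟙 u.base := by
    have e : M.hom.fst.hom = eqToHom (t.w_obj (pnt c)) ≫ n.hom ≫ eqToHom (t.w_obj (pnt c')).symm := by
      rw [← hn']
      exact CategoryTheory.Functor.congr_hom (BasedFunctor.comp t (fpFst x x)).w n
    have e' : M.hom.fst.hom = eqToHom (t.w_obj (pnt c)) ≫ eqToHom (t.w_obj (pnt c')).symm := by
      change ((q₁ β c).inv ≫ (q₁ β c').hom).hom = _
      have : (q₁ β c).inv.hom = eqToHom (t.w_obj (pnt c)) := by
        have hh := congrArg (fun m => m.hom) (q₁ β c).hom_inv_id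
        simp only [Stk.EltObj.comp_hom, q₁_hom, Stk.EltObj.id_hom] at hh
        exact (cancel_epi (eqToHom (t.w_obj (pnt c)).symm)).1 (hh.trans (by simp))
      rw [Stk.EltObj.comp_hom, this, q₁_hom]
    have := e.symm.trans e'
    rw [cancel_epi (eqToHom _)] at this
    exact (cancel_mono (eqToHom _)).1 (this.trans (Category.id_comp _).symm)
  have h4 := n.map_sec
  rw [h3, op_id] at h4
  erw [CategoryTheory.Functor.map_id] at h4
  exact (secEquiv u.base).injective h4.symm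

theorem aut_surjective (hE : IsEquivOver t) {u : (ofSp B).obj} :
    Function.Surjective (aut π ex β h (u := u)) := by
  intro α
  let i : x.obj u ≅ x.obj u := Functor.Fiber.fiberInclusion.mapIso α
  have hi : 𝒳.p.IsHomLift (𝟙 u.base) i.hom := by
    have h2 : 𝒳.p.IsHomLift (𝟙 (𝒳.p.obj (x.obj u))) α.hom.1 := α.hom.2
    exact lift_of_eq (x.w_obj u) _ h2
  let o : (fp x x).obj := FibProd.objMk u u i hi
  obtain ⟨ξ, j, hj⟩ := BasedBasic.IsEquivOver.exists_iso hE o
  have hj' : (fp x x).p.IsHomLift (𝟙 ((fp x x).p.obj o)) j.hom := hj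
  have hT : ξ.base = u.base := (t.w_obj ξ).symm.trans
    (IsHomLift.domain_eq (fp x x).p (𝟙 ((fp x x).p.obj o)) j.hom)
  obtain ⟨T, sec⟩ := ξ
  obtain rfl : T = u.base := hT
  have hb : (BasedFunctor.comp t (fpFst x x)).obj ⟨u.base, sec⟩ ≅ u :=
    ⟨j.hom.hom.fst, j.inv.hom.fst, congrArg (fun m => m.hom.fst) j.hom_inv_id,
      congrArg (fun m => m.hom.fst) j.inv_hom_id⟩
  let c₁ : (yon S).obj u.base ⟶ A.obj := (secEquiv u.base).symm sec
  have hc : c₁ ≫ bA = sy u := by
    apply (secEquiv u.base).injective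
    rw [secEquiv_comp, Equiv.apply_symm_apply, Equiv.apply_symm_apply]
    let m : (ofSpMap bA).obj ⟨u.base, sec⟩ ⟶ u :=
      (appIso β ⟨u.base, sec⟩).inv ≫ j.hom.hom.fst
    have h1 : (ofSp B).p.IsHomLift (𝟙 u.base) (appIso β ⟨u.base, sec⟩).hom := appIso_isHomLift β (⟨u.base, sec⟩ : (ofSp A.obj).obj)
    have h2 : (ofSp B).p.IsHomLift (𝟙 u.base) (appIso β ⟨u.base, sec⟩).inv := IsHomLift.lift_id_inv _ _ _
    have h3 : (ofSp B).p.IsHomLift (𝟙 u.base) j.hom.hom.fst :=
      BasedFunctor.preserves_isHomLift (fpFst x x) (𝟙 ((fp x x).p.obj o)) j.hom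
    have h4 : (ofSp B).p.IsHomLift (𝟙 u.base) m := inferInstance
    have hm := m.map_sec
    rw [hom_of_vertical m h4, eqToHom_refl] at hm
    erw [op_id, CategoryTheory.Functor.map_id] at hm
    exact hm.symm
  refine ⟨⟨c₁, hc⟩, ?_⟩
  have hp : pnt (⟨c₁, hc⟩ : Sc bA u) = ⟨u.base, sec⟩ :=
    congrArg _ ((secEquiv u.base).apply_symm_apply sec)
  let M : t.obj (pnt (⟨c₁, hc⟩ : Sc bA u)) ⟶ o := t.map (eqToHom hp) ≫ j.hom
  have hM : (fp x x).p.IsHomLift (𝟙 u.base) M := by
    have : (ofSp A.obj).p.IsHomLift (𝟙 u.base) (eqToHom hp) :=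
      IsHomLift.of_fac' _ _ _ rfl rfl (by
        change (eqToHom hp).hom = _
        rw [comp_eqToHom_hom hp]; simp)
    have h5 : (fp x x).p.IsHomLift (𝟙 u.base) j.hom := hj'
    have h6 : (fp x x).p.IsHomLift (𝟙 u.base) (t.map (eqToHom hp)) :=
      BasedFunctor.preserves_isHomLift t _ _
    exact inferInstanceAs ((fp x x).p.IsHomLift (𝟙 u.base) (t.map (eqToHom hp) ≫ j.hom))
  have e1 : (q₁ β (⟨c₁, hc⟩ : Sc bA u)).hom ≫ M.hom.fst = 𝟙 u := by
    have : (ofSp B).p.IsHomLift (𝟙 u.base) M.hom.fst :=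
      BasedFunctor.preserves_isHomLift (fpFst x x) _ M
    apply Stk.EltObj.hom_ext
    rw [Stk.EltObj.comp_hom, q₁_hom, hom_of_vertical _ this]
    simp
  have e2 : M.hom.snd = (q₂ π ex β (⟨c₁, hc⟩ : Sc bA u)).inv := by
    have : (ofSp B).p.IsHomLift (𝟙 u.base) M.hom.snd :=
      BasedFunctor.preserves_isHomLift (FibCat.fpSnd x x) _ M
    rw [← cancel_epi (q₂ π ex β (⟨c₁, hc⟩ : Sc bA u)).hom, Iso.hom_inv_id]
    apply Stk.EltObj.hom_ext
    rw [Stk.EltObj.comp_hom, q₂_hom, hom_of_vertical _ this]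
    simp
  have w : x.map M.hom.fst ≫ α.hom.1 = (t.obj _).obj.iso.hom ≫ x.map M.hom.snd := M.hom.w
  apply Aut.ext
  apply Functor.Fiber.hom_ext
  change endo π ex β _ = α.hom.1
  rw [endo, ← e2, ← w, ← Functor.map_comp_assoc, e1, CategoryTheory.Functor.map_id, Category.id_comp]

/-- Sections are automorphisms. -/
def autEquiv (hE : IsEquivOver t) (u : (ofSp B).obj) : Sc bA u ≃ Gerb.AutO (x.obj u) :=
  Equiv.ofBijective (aut π ex β h) ⟨aut_injective π ex β h hE, aut_surjective π ex β h hE⟩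

end Groth.Agent.H14.SpGerbe
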