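import Groth.Agent.Lib.Fibred.DenseExt2

/-!
# Extension from a dense family, with the comparison maps
-/

set_option autoImplicit false
set_option backward.isDefEq.respectTransparency false
set_option backward.isDefEq.respectTransparency.types false

universe w₁ v u v₂ u₂ v₃ u₃

open CategoryTheory CategoryTheory.Functor Groth.Agent.Lib.Fibred.Descent Groth.Agent.Lib.Fibred.StackLemmas
open Groth.Agent.Lib.Fibred Groth.Agent.Lib.Fibred.DenseExt2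

namespace Groth.Agent.H14.SpGerbe

variable {C : Type u} [Category.{v} C] {𝒳 : BasedCategory.{v₂, u₂} C} {𝒴 : BasedCategory.{v₃, u₃} C} (D : Data 𝒳 𝒴)

/-- Stacks with equivalent dense families are equivalent. -/
theorem exists_isEquivOver_tau (J : GrothendieckTopology C) (hX : Stk.IsStack J 𝒳) (hY : Stk.IsStack J 𝒴)
    (hlX : ∀ x : 𝒳.obj, sieve D x (𝒳.p.obj x) ∈ J (𝒳.p.obj x))
    (hlY : ∀ y : 𝒴.obj, ∃ R ∈ J (𝒴.p.obj y), ∀ ⦃V : C⦄ (f : V ⟶ 𝒴.p.obj y), R f →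
      ∃ (i : D.ι V) (φ : D.w i ⟶ y), 𝒴.p.IsHomLift f φ) :
    ∃ e : 𝒳 ⥤ᵇ 𝒴, FibCat.IsEquivOver e ∧
      ∀ {V : C} {i : D.ι V} {x : 𝒳.obj} (f : V ⟶ 𝒳.p.obj x) (t : D.z i ⟶ x),
        𝒳.p.IsHomLift f t → ∃ m : D.w i ⟶ e.obj x, 𝒴.p.IsHomLift f m := by
  have h𝒳 := hX.1
  have h𝒴 := hY.1
  have I : ∀ x, Img D x := fun x => (exists_img D h𝒳 J hY x (hlX x)).some
  choose E hE huniq using fun {x' x : 𝒳.obj} (b : x' ⟶ x) =>
    existsUnique_hom h𝒳 h𝒴 J hY (hlX x') (I x') (I x) b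
  have huniq' : ∀ {x' x : 𝒳.obj} (b : x' ⟶ x) (c : (I x').y ⟶ (I x).y),
      𝒴.p.IsHomLift (𝒳.p.map b) c → (∀ {V : C} {i : D.ι V} (t : D.z i ⟶ x'), (I x').τ t ≫ c = (I x).τ (t ≫ b)) →
      E b = c := fun b c h1 h2 => (huniq b c ⟨h1, h2⟩).symm
  let F : 𝒳 ⥤ᵇ 𝒴 :=
    { obj := fun x => (I x).y
      map := fun b => E b
      map_id := fun x => huniq' (𝟙 x) _ (by rw [𝒳.p.map_id]; exact IsHomLift.id (I x).hy) (fun t => by simp)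
      map_comp := fun {a b c} f g => huniq' (f ≫ g) _ (by
          have := (hE f).1
          have := (hE g).1
          rw [𝒳.p.map_comp]; infer_instance) (fun t => by
          rw [← Category.assoc, (hE f).2, (hE g).2, Category.assoc])
      w := CategoryTheory.Functor.ext (fun x => (I x).hy) fun a b f => by
        have := (hE f).1
        exact IsHomLift.fac' 𝒴.p (𝒳.p.map f) (E f) }
  have hFf : F.toFunctor.Faithful := by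
    refine StackLocal.faithful_of_vertical F h𝒳 h𝒴 fun x θ hθ e => ?_
    obtain ⟨hS, -, -⟩ := (isStackFor_iff hX.1).mp (hX.2 _ (hlX x))
    refine hS θ (𝟙 x) hθ (IsHomLift.id rfl) fun V f hf z ψ hψ => ?_
    obtain ⟨i, t, ht⟩ := hf
    obtain ⟨ν, hν, rfl⟩ := exists_factor h𝒳 t ht ψ hψ
    have e' := (hE θ).2 t
    rw [show E θ = 𝟙 (I x).y from e, Category.comp_id] at e'
    have := Img.injective h𝒳 (I x) (f := f) ht inferInstance h𝒴 e'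
    rw [Category.assoc, Category.comp_id, ← this]
  have hFu : F.toFunctor.Full := by
    refine ⟨fun {x' x} c => ?_⟩
    let g : 𝒳.p.obj x' ⟶ 𝒳.p.obj x := eqToHom (I x').hy.symm ≫ 𝒴.p.map c ≫ eqToHom (I x).hy
    have hc : 𝒴.p.IsHomLift g c := IsHomLift.of_fac' _ _ _ (I x').hy (I x).hy (by simp [g])
    obtain ⟨x₁, q, hq⟩ := exists_lift h𝒳 rfl g
    have hx₁ : 𝒳.p.obj x₁ = 𝒳.p.obj x' := IsHomLift.domain_eq 𝒳.p g q
    let R := sieve D x' (𝒳.p.obj x') ⊓ (sieve D x (𝒳.p.obj x)).pullback g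
    have hR : R ∈ J (𝒳.p.obj x') := J.intersection_covering (hlX x') (J.pullback_stable g (hlX x))
    obtain ⟨-, hG, -⟩ := (isStackFor_iff hX.1).mp (hX.2 R hR)
    have key : ∀ ⦃V : C⦄ (f : V ⟶ 𝒳.p.obj x'), R f → ∀ {i : D.ι V} (t : D.z i ⟶ x'), 𝒳.p.IsHomLift f t →
        ∃ s : D.z i ⟶ x, 𝒳.p.IsHomLift (f ≫ g) s ∧ (I x).τ s = (I x').τ t ≫ c := by
      intro V f hf i t ht
      obtain ⟨i₀, s₀, hs₀⟩ := hf.2
      have := (I x').lifts f t ht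
      obtain ⟨β, hβ, eβ⟩ := exists_factor h𝒴 ((I x).τ s₀) ((I x).lifts (f ≫ g) s₀ hs₀)
        ((I x').τ t ≫ c) inferInstance
      obtain ⟨α, rfl⟩ := D.bij.2 β
      have hα : 𝒳.p.IsHomLift (𝟙 V) α := by
        obtain ⟨v, hv⟩ : ∃ v : V ⟶ V, 𝒳.p.IsHomLift v α :=
          ⟨eqToHom (D.hz i).symm ≫ 𝒳.p.map α ≫ eqToHom (D.hz i₀),
            IsHomLift.of_fac' _ _ _ (D.hz i) (D.hz i₀) (by simp)⟩
        obtain rfl : v = 𝟙 V := base_eq (D.lifts v α hv) hβ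
        exact hv
      exact ⟨α ≫ s₀, inferInstance, by rw [(I x).nat, eβ]⟩
    have key' : ∀ ⦃V : C⦄ (f : V ⟶ 𝒳.p.obj x'), R f → ∀ ⦃z : 𝒳.obj⦄ (ψ : z ⟶ x'),
        𝒳.p.IsHomLift f ψ → ∃ m : z ⟶ x₁, 𝒳.p.IsHomLift f m ∧
          ∀ {i : D.ι V} (a : D.z i ⟶ z), 𝒳.p.IsHomLift (𝟙 V) a → (I x).τ (a ≫ m ≫ q) = (I x').τ (a ≫ ψ) ≫ c := by
      intro V f hf z ψ hψ
      obtain ⟨i₀, t₀, ht₀⟩ := hf.1
      obtain ⟨θ, hθ, rfl⟩ := exists_factor h𝒳 t₀ ht₀ ψ hψ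
      obtain ⟨s, hs, es⟩ := key f hf t₀ ht₀
      have := cart h𝒳 q hq
      refine ⟨θ ≫ IsStronglyCartesian.map 𝒳.p g q (g := f) rfl s, inferInstance, fun {i} a ha => ?_⟩
      rw [Category.assoc, IsStronglyCartesian.fac, ← Category.assoc, (I x).nat, ← Category.assoc a θ,
        (I x').nat, Category.assoc, es]
    choose m hm hme using key'
    obtain ⟨b, hb, hbm⟩ := hG rfl hx₁ m ⟨hm, fun V f hf z ψ hψ V' v z' ρ hρ hψ' => by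
      have := hm f hf ψ hψ
      refine ext_lift h𝒳 q hq (g := v ≫ f) (hm _ _ _ hψ') inferInstance ?_
      obtain ⟨i₀, t₀, ht₀⟩ := (R.downward_closed hf v).1
      obtain ⟨θ₀, hθ₀, eθ₀⟩ := exists_factor h𝒳 t₀ ht₀ (ρ ≫ ψ) hψ'
      have := isIso_of_vertical h𝒳 θ₀ hθ₀
      obtain ⟨i₁, t₁, ht₁⟩ := hf.1
      obtain ⟨θ₁, hθ₁, eθ₁⟩ := exists_factor h𝒳 t₁ ht₁ ψ hψ
      have := isIso_of_vertical h𝒳 θ₁ hθ₁
      have := hm (v ≫ f) (R.downward_closed hf v) _ hψ'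
      refine (cancel_epi (inv θ₀)).1 (Img.injective h𝒳 (I x) (f := (v ≫ f) ≫ g) inferInstance
        inferInstance h𝒴 ?_)
      have e1 : inv θ₀ ≫ ρ ≫ m f hf ψ hψ ≫ q =
          (inv θ₀ ≫ ρ ≫ θ₁) ≫ (inv θ₁ ≫ m f hf ψ hψ ≫ q) := by simp
      have e2 : inv θ₀ ≫ ρ ≫ ψ = (inv θ₀ ≫ ρ ≫ θ₁) ≫ (inv θ₁ ≫ ψ) := by simp
      rw [hme _ _ _ hψ' (inv θ₀) inferInstance, Category.assoc, e1, (I x).nat,
        hme f hf ψ hψ (inv θ₁) inferInstance, e2, (I x').nat, Category.assoc]⟩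
    refine ⟨b ≫ q, ?_⟩
    have hcq : 𝒳.p.IsHomLift g (b ≫ q) := inferInstance
    have hg : g = 𝒳.p.map (b ≫ q) := by simpa using (IsHomLift.fac' 𝒳.p g (b ≫ q)).symm
    -- compare on the refined sieve
    obtain ⟨hSY, -, -⟩ := (isStackFor_iff hY.1).mp (hY.2 R hR)
    have hEb : 𝒴.p.IsHomLift g (E (b ≫ q)) := hg ▸ (hE (b ≫ q)).1
    obtain ⟨y₁, r, hr⟩ := exists_lift h𝒴 (I x).hy g
    obtain ⟨c₁, hc₁, ec₁⟩ := exists_factor h𝒴 r hr c hc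
    obtain ⟨c₂, hc₂, ec₂⟩ := exists_factor h𝒴 r hr (E (b ≫ q)) hEb
    change E (b ≫ q) = c
    rw [← ec₁, ← ec₂]
    refine congrArg (fun e => e ≫ r) (hSY c₂ c₁ hc₂ hc₁ fun V f hf z ψ hψ => ?_)
    obtain ⟨i, t, ht⟩ := hf.1
    have hτ := (I x').lifts f t ht
    obtain ⟨θ, hθ, rfl⟩ := exists_factor h𝒴 ((I x').τ t) hτ ψ hψ
    refine ext_lift h𝒴 r hr (g := f) inferInstance inferInstance ?_
    simp only [Category.assoc]
    rw [ec₁, ec₂, (hE (b ≫ q)).2 t]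
    have e3 := hme f hf t ht (𝟙 _) (IsHomLift.id (D.hz i))
    rw [← hbm f hf t ht] at e3
    simp only [Category.id_comp, Category.assoc] at e3
    rw [e3]
  refine ⟨F, ?_, fun {V i x} f t ht => ⟨(I x).τ t, (I x).lifts f t ht⟩⟩
  refine EquivOver.isEquivOver_of_ff_essSurj F (StackLocal.essSurjOver_of_locally F J hX hY
    fun y => ?_)
  obtain ⟨R, hR, hl⟩ := hlY y
  refine ⟨R, hR, fun V f hf => ?_⟩
  obtain ⟨i, φ, hφ⟩ := hl f hf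
  refine ⟨D.z i, ?_⟩
  have hid : 𝒳.p.IsHomLift (eqToHom (D.hz i).symm) (𝟙 (D.z i)) :=
    IsHomLift.of_fac' _ _ _ (D.hz i) rfl (by simp)
  have := (I (D.z i)).lifts (eqToHom (D.hz i).symm) (𝟙 _) hid
  have hl' : 𝒴.p.IsHomLift (𝟙 V) ((I (D.z i)).τ (𝟙 (D.z i))) :=
    IsHomLift.of_fac' _ _ _ (D.hw i) ((I (D.z i)).hy.trans (D.hz i)) (by
      rw [IsHomLift.fac' 𝒴.p (eqToHom (D.hz i).symm) ((I (D.z i)).τ (𝟙 _))]; simp)
  have := isIso_of_vertical h𝒴 _ hl'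
  exact ⟨inv ((I (D.z i)).τ (𝟙 (D.z i))) ≫ φ, inferInstanceAs (𝒴.p.IsHomLift f _)⟩

end Groth.Agent.H14.SpGerbe
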