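import Groth.Agent.H14.SpGerbe.Aut
import Groth.Prelude.Def_AlgSt6
import Mathlib.CategoryTheory.Monoidal.Cartesian.Grp
import Mathlib.CategoryTheory.Monoidal.Cartesian.Over

/-!
# The automorphism group of a section of a gerbe over a space
-/

set_option autoImplicit false
set_option backward.isDefEq.respectTransparency false
set_option backward.isDefEq.respectTransparency.types false

universe u

open CategoryTheory CategoryTheory.Limits AlgebraicGeometry Opposite

noncomputable section

namespace Groth.Agent.H14.SpGerbe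

open Groth.Agent.Lib.AlgSpace
open FibCat (IsEquivOver IsFibGrpd fp fpFst)
open AlgSt (ofSp ofSpMap)
open AlgSp (Sp yon)
open scoped MonoidalCategory

variable {S : Scheme.{u}} {𝒳 : AlgSt.Cat S} {B : Sp S} {x : ofSp B ⥤ᵇ 𝒳} {π : 𝒳 ⥤ᵇ ofSp B}
  (ex : BasedFunctor.comp x π ≅ BasedFunctor.id (ofSp B))
  {A : AlgSp.Space S} {bA : A.obj ⟶ B} {t : ofSp A.obj ⥤ᵇ fp x x}
  (β : BasedFunctor.comp t (fpFst x x) ≅ ofSpMap bA) (h : IsFibGrpd 𝒳.p) (hE : IsEquivOver t)

variable (x) in
/-- Automorphisms along the points of a sheaf over the base. -/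
abbrev Idx (Y : Over B) : Type (u + 1) :=
  ∀ (v : (ofSp B).obj) (_ : {c : (yon S).obj v.base ⟶ Y.left // c ≫ Y.hom = sy v}), Gerb.AutO (x.obj v)

variable (x) in
/-- Compatible families of automorphisms along the points of a sheaf over the base. -/
def families (Y : Over B) : Subgroup (Idx x Y) where
  carrier := {φ | ∀ (v v' : (ofSp B).obj) (k : v' ⟶ v) c hc hc',
    (φ v' ⟨(yon S).map k.hom ≫ c, hc'⟩).hom.1 ≫ x.map k = x.map k ≫ (φ v ⟨c, hc⟩).hom.1}
  mul_mem' {φ ψ} hφ hψ v v' k c hc hc' := by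
    change ((ψ v' ⟨_, hc'⟩).hom.1 ≫ (φ v' ⟨_, hc'⟩).hom.1) ≫ x.map k =
      x.map k ≫ (ψ v ⟨c, hc⟩).hom.1 ≫ (φ v ⟨c, hc⟩).hom.1
    rw [Category.assoc, hφ v v' k c hc hc', reassoc_of% hψ v v' k c hc hc']
  one_mem' v v' k c hc hc' := (Category.id_comp _).trans (Category.comp_id _).symm
  inv_mem' {φ} hφ v v' k c hc hc' := by
    change (φ v' ⟨_, hc'⟩).inv.1 ≫ x.map k = x.map k ≫ (φ v ⟨c, hc⟩).inv.1
    have e1 : (φ v' ⟨_, hc'⟩).inv.1 ≫ (φ v' ⟨_, hc'⟩).hom.1 = 𝟙 _ := congrArg (fun m => m.1) (φ v' ⟨_, hc'⟩).inv_hom_id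
    have e2 : (φ v ⟨c, hc⟩).hom.1 ≫ (φ v ⟨c, hc⟩).inv.1 = 𝟙 _ := congrArg (fun m => m.1) (φ v ⟨c, hc⟩).hom_inv_id
    calc (φ v' ⟨_, hc'⟩).inv.1 ≫ x.map k
        = (φ v' ⟨_, hc'⟩).inv.1 ≫ x.map k ≫ (φ v ⟨c, hc⟩).hom.1 ≫ (φ v ⟨c, hc⟩).inv.1 := by
          rw [e2, Category.comp_id]
      _ = x.map k ≫ (φ v ⟨c, hc⟩).inv.1 := by
          rw [← reassoc_of% hφ v v' k c hc hc', reassoc_of% e1]

variable (x) in
/-- The presheaf of compatible families. -/
def famPsh : (Over B)ᵒᵖ ⥤ GrpCat.{u + 1} where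
  obj Y := GrpCat.of (families x Y.unop)
  map {Y Z} k := GrpCat.ofHom (MonoidHom.mk'
    (fun φ => ⟨fun v c => φ.1 v ⟨c.1 ≫ k.unop.left, by rw [Category.assoc, Over.w k.unop, c.2]⟩,
      fun v v' m c hc hc' => by
        have := φ.2 v v' m (c ≫ k.unop.left) (by rw [Category.assoc, Over.w k.unop, hc])
          (by rw [Category.assoc, Category.assoc, Over.w k.unop]; exact (Category.assoc _ _ _).symm.trans hc')
        simpa only [Category.assoc] using this⟩)
    (fun φ ψ => rfl))
  map_id Y := GrpCat.hom_ext <| MonoidHom.ext fun φ => Subtype.ext <| funext fun v => funext fun c =>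
    congrArg (φ.1 v) (Subtype.ext (Category.comp_id c.1))
  map_comp {Y Z W} k l := GrpCat.hom_ext <| MonoidHom.ext fun φ => Subtype.ext <| funext fun v => funext fun c =>
    congrArg (φ.1 v) (Subtype.ext (Category.assoc c.1 _ _).symm)

/-- The family of a map into the space of automorphisms. -/
def toFam {Y : Over B} (f : Y ⟶ Over.mk bA) : families x Y :=
  ⟨fun v c => aut π ex β h ⟨c.1 ≫ f.left, by
      rw [Category.assoc]
      exact (congrArg (c.1 ≫ ·) (Over.w f)).trans c.2⟩, fun v v' k c hc hc' => by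
    have := aut_natural π ex β h k ⟨c ≫ f.left, by
      rw [Category.assoc]
      exact (congrArg (c ≫ ·) (Over.w f)).trans hc⟩
    simpa only [restr, Category.assoc] using this⟩

/-- Families agree if they agree on the canonical points. -/
theorem idx_ext {Y : Over B} {F G : Idx x Y}
    (H : ∀ {T : Over S} (c : (yon S).obj T ⟶ Y.left),
      F (el (c ≫ Y.hom)) ⟨c, ((secEquiv T).symm_apply_apply _).symm⟩ =
        G (el (c ≫ Y.hom)) ⟨c, ((secEquiv T).symm_apply_apply _).symm⟩) : F = G := by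
  funext v cc
  obtain ⟨T, s⟩ := v
  obtain ⟨c, hc⟩ := cc
  have key : ∀ (s' : B.obj.obj (op T)), secEquiv T (c ≫ Y.hom) = s' →
      ∀ hc' : c ≫ Y.hom = sy ⟨T, s'⟩, F ⟨T, s'⟩ ⟨c, hc'⟩ = G ⟨T, s'⟩ ⟨c, hc'⟩ := by
    intro s' e
    cases e
    exact fun _ => H c
  exact key s ((congrArg (secEquiv T) hc).trans (Equiv.apply_symm_apply _ _)) hc

/-- The space represents the compatible families. -/
def famRep : (famPsh x ⋙ forget _).RepresentableBy (Over.mk bA) where
  homEquiv {Y} :=
    { toFun := toFam ex β h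
      invFun := fun φ => Over.homMk
        (homMkYon (fun T a => ((autEquiv π ex β h hE (el (a ≫ Y.hom))).symm
          (φ.1 (el (a ≫ Y.hom)) ⟨a, ((secEquiv T).symm_apply_apply _).symm⟩)).1) (fun {T T'} m a => by
            have w : (yon S).map m ≫ (a ≫ Y.hom) = ((yon S).map m ≫ a) ≫ Y.hom := (Category.assoc _ _ _).symm
            let k := elMap m w
            let c := (autEquiv π ex β h hE (el (a ≫ Y.hom))).symm
              (φ.1 (el (a ≫ Y.hom)) ⟨a, ((secEquiv T).symm_apply_apply _).symm⟩)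
            refine congrArg Subtype.val (show _ = restr k c from ?_)
            apply (autEquiv π ex β h hE _).injective
            rw [Equiv.apply_symm_apply]
            refine aut_ext h k _ _ ?_
            change _ = (aut π ex β h (restr k c)).hom.1 ≫ x.map k
            rw [aut_natural, show aut π ex β h c = _ from (autEquiv π ex β h hE _).apply_symm_apply _]
            exact φ.2 _ _ k a _ _))
        (Lib.AlgSpace.hom_ext fun T a => by
          rw [← Category.assoc, comp_homMkYon]
          exact ((autEquiv π ex β h hE _).symm _).2.trans ((secEquiv T).symm_apply_apply _))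
      left_inv := fun f => Over.OverMorphism.ext (Lib.AlgSpace.hom_ext fun T a => by
        refine (comp_homMkYon _ _ a).trans ?_
        exact congrArg Subtype.val ((autEquiv π ex β h hE (el (a ≫ Y.hom))).symm_apply_apply
          ⟨a ≫ f.left, by rw [Category.assoc]; exact (congrArg (a ≫ ·) (Over.w f)).trans ((secEquiv T).symm_apply_apply _).symm⟩))
      right_inv := fun φ => Subtype.ext <| idx_ext fun {T} c => by
        refine Eq.trans ?_ ((autEquiv π ex β h hE (el (c ≫ Y.hom))).apply_symm_apply (φ.1 _ ⟨c, _⟩))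
        refine congrArg (aut π ex β h) (Subtype.ext ?_)
        exact comp_homMkYon _ _ c }
  homEquiv_comp {Y Y'} k f := Subtype.ext <| funext fun v => funext fun c =>
    congrArg (aut π ex β h) (Subtype.ext (Category.assoc c.1 _ _).symm)

/-- The group structure on the space of automorphisms. -/
@[instance_reducible]
def grpObj : GrpObj (Over.mk bA) := GrpObj.ofRepresentableBy (Over.mk bA) (famPsh x) (famRep ex β h hE)

/-- The automorphism of a section over a scheme. -/
def ev {T : Over S} {b : (yon S).obj T ⟶ B} (g : Over.mk b ⟶ Over.mk bA) : Gerb.AutO (x.obj (el b)) :=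
  aut π ex β h ⟨g.left, (Over.w g).trans ((secEquiv T).symm_apply_apply b).symm⟩

open scoped MonObj in
theorem ev_mul {T : Over S} {b : (yon S).obj T ⟶ B} (g g' : Over.mk b ⟶ Over.mk bA) :
    letI := grpObj ex β h hE
    ev ex β h (g * g') = ev ex β h g * ev ex β h g' := by
  let e := fun (f : Over.mk b ⟶ Over.mk bA) =>
    (toFam ex β h f).1 (el b) ⟨𝟙 _, (Category.id_comp _).trans ((secEquiv T).symm_apply_apply b).symm⟩
  have he : ∀ f, e f = ev ex β h f := fun f => congrArg (aut π ex β h) (Subtype.ext (Category.id_comp _))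
  let _ := grpObj ex β h hE
  have hm : toFam ex β h (g * g') = toFam ex β h g * toFam ex β h g' :=
    ((yonedaGrpObjIsoOfRepresentableBy (Over.mk bA) (famPsh x) (famRep ex β h hE)).hom.app
      (op (Over.mk b))).hom.map_mul g g'
  rw [← he, ← he, ← he]
  exact congrArg (fun F : families x (Over.mk b) => F.1 (el b) ⟨𝟙 _, (Category.id_comp _).trans
    ((secEquiv T).symm_apply_apply b).symm⟩) hm

theorem ev_natural {T' T : Over S} {b' : (yon S).obj T' ⟶ B} {b : (yon S).obj T ⟶ B} (f : T' ⟶ T)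
    (w : (yon S).map f ≫ b = b') (g : Over.mk b ⟶ Over.mk bA) :
    (ev ex β h (AlgSt.bHom f w ≫ g)).hom.1 ≫ x.map (elMap f w) =
      x.map (elMap f w) ≫ (ev ex β h g).hom.1 :=
  aut_natural π ex β h (elMap f w) ⟨g.left, (Over.w g).trans ((secEquiv T).symm_apply_apply b).symm⟩

include hE in
theorem ev_bijective {T : Over S} (b : (yon S).obj T ⟶ B) :
    Function.Bijective (ev ex β h (bA := bA) (b := b)) := by
  constructor
  · intro g g' e
    exact Over.OverMorphism.ext (congrArg Subtype.val ((autEquiv π ex β h hE _).injective e))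
  · intro α
    obtain ⟨c, hc⟩ := (autEquiv π ex β h hE (el b)).surjective α
    exact ⟨Over.homMk c.1 (c.2.trans ((secEquiv T).symm_apply_apply b)), hc⟩

end Groth.Agent.H14.SpGerbe
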