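import Groth.Agent.H14.SpGerbe.Main
import Groth.Agent.Lib.Gerbe.Criterion
import Groth.Agent.Lib.Gerbe.Diag

/-!
# Gerbes are locally classifying stacks
-/

set_option autoImplicit false
set_option backward.isDefEq.respectTransparency false
set_option backward.isDefEq.respectTransparency.types false

universe u

open CategoryTheory CategoryTheory.Limits MonoidalCategory CartesianMonoidalCategory AlgebraicGeometry Opposite

noncomputable section

namespace Groth.Agent.H14.SpGerbe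

open Groth.Agent.Lib.AlgSpace
open scoped MonObj
open Groth.Agent.Lib.AlgStack.BasedBasic
open Groth.Agent.Lib.Gerbe (Formal.isGerbeOver_comp Formal.isGerbeOver_fpFst Formal.locSurjObj_of_iso)
open FibCat (IsEquivOver IsFibGrpd fp fpFst fpSnd fpLift fpIso)
open AlgSt (ofSp SpBG trivGAction RepByAlgSpWith IsAlgStack toOverCat)
open AlgSp (Sp yon LocP)

variable {S : Scheme.{u}}

theorem locSurjHom_of_iso {C : Type*} [Category C] (J : GrothendieckTopology C)
    {𝒳 𝒴 : BasedCategory C} {F F' : 𝒳 ⥤ᵇ 𝒴} (e : F ≅ F') (hF : Gerb.LocSurjHom J F) :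
    Gerb.LocSurjHom J F' := fun x x' b hb => by
  have hx' : 𝒳.p.obj x' = 𝒳.p.obj x := (F'.w_obj x').symm.trans (IsHomLift.codomain_eq 𝒴.p (𝟙 (𝒳.p.obj x)) b)
  have h1 : 𝒴.p.IsHomLift (𝟙 (𝒳.p.obj x)) (appIso e x).hom := appIso_isHomLift e x
  have h2 : 𝒴.p.IsHomLift (𝟙 (𝒳.p.obj x)) (appIso e x').hom := hx' ▸ appIso_isHomLift e x'
  have h3 : 𝒴.p.IsHomLift (𝟙 (𝒳.p.obj x)) (appIso e x').inv := IsHomLift.lift_id_inv _ _ _
  obtain ⟨R, hR, hl⟩ := hF x x' ((appIso e x).hom ≫ b ≫ (appIso e x').inv) inferInstance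
  refine ⟨R, hR, fun V f hf => ?_⟩
  obtain ⟨x₀, φ, ψ, hφ, hψ, he⟩ := hl f hf
  refine ⟨x₀, φ, ψ, hφ, hψ, ?_⟩
  have n1 : F.map φ ≫ (appIso e x).hom = (appIso e x₀).hom ≫ F'.map φ := e.hom.toNatTrans.naturality φ
  have n2 : F.map ψ ≫ (appIso e x').hom = (appIso e x₀).hom ≫ F'.map ψ := e.hom.toNatTrans.naturality ψ
  rw [← cancel_epi (appIso e x₀).hom, ← reassoc_of% n1, ← n2, ← he]
  simp only [Category.assoc, Iso.inv_hom_id, Category.comp_id]

/-- Being a gerbe is invariant under isomorphisms of functors. -/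
theorem isGerbeOver_of_iso {C : Type*} [Category C] (J : GrothendieckTopology C)
    {𝒳 𝒴 : BasedCategory C} {F F' : 𝒳 ⥤ᵇ 𝒴} (e : F ≅ F') (h : IsFibGrpd 𝒳.p)
    (hF : Gerb.IsGerbeOver J F) : Gerb.IsGerbeOver J F' :=
  ⟨Formal.locSurjObj_of_iso J e h hF.1, locSurjHom_of_iso J e hF.2⟩

variable {B : Sp S} {A : AlgSp.Space S} (bA : A.obj ⟶ B) [GrpObj (Over.mk bA)]

/-- A classifying stack is a gerbe over its base. -/
theorem isGerbeOver_toBase :
    Gerb.IsGerbeOver (AlgSp.J S)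
      (W4stkstmgerbes.spQuotToBase Scheme.fppfPrecoverage (Over.mk bA) (trivGAction (Over.mk bA))) := by
  let T := W4stkstmgerbes.spQuotToBase Scheme.fppfPrecoverage (Over.mk bA) (trivGAction (Over.mk bA))
  refine ⟨fun y => ⟨⊤, (AlgSp.J S).top_mem _, fun V f _ => ?_⟩, fun o o' b hb => ?_⟩
  · let g : T.obj (triv bA ((yon S).map f ≫ sy y)) ⟶ y :=
      ⟨f, ((congrArg (fun s => B.obj.map f.op s) ((secEquiv y.base).apply_symm_apply y.sec)).symm.trans
        (secEquiv_map f (sy y)).symm)⟩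
    exact ⟨triv bA ((yon S).map f ≫ sy y), g, IsHomLift.map (ofSp B).p g⟩
  · replace hb : (ofSp B).p.IsHomLift (𝟙 o.base) b := hb
    have e0 : o'.base = o.base := IsHomLift.codomain_eq (ofSp B).p (𝟙 o.base) b
    have hb' : b.hom = eqToHom e0.symm := by
      have := IsHomLift.fac' (ofSp B).p (𝟙 o.base) b
      refine this.trans ?_
      simp
    have hw : (yon S).map b.hom ≫ o'.b = o.b := by
      apply (secEquiv o.base).injective
      exact (secEquiv_map b.hom o'.b).trans b.map_sec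
    obtain ⟨R, hR, hl⟩ := exists_loc (bA := bA) o
    obtain ⟨R', hR', hl'⟩ := exists_loc (bA := bA) o'
    refine ⟨R ⊓ R'.pullback b.hom, (AlgSp.J S).intersection_covering hR ((AlgSp.J S).pullback_stable _ hR'),
      fun V f hf => ?_⟩
    obtain ⟨a, ha⟩ := hl f hf.1
    obtain ⟨a', ha'⟩ := hl' (f ≫ b.hom) hf.2
    obtain ⟨c, hc, -⟩ := exists_hom (bA := bA) (b' := (yon S).map f ≫ o.b)
      (b := (yon S).map (f ≫ b.hom) ≫ o'.b) (𝟙 V)
      (by rw [CategoryTheory.Functor.map_id, Category.id_comp, Functor.map_comp, Category.assoc, hw]) 1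
    have e1 : a.base = f :=
      (Lib.Fibred.DenseExt2.base_eq (IsHomLift.map (SpBG Scheme.fppfPrecoverage (Over.mk bA)).p a) ha :)
    have e2 : a'.base = f ≫ b.hom :=
      (Lib.Fibred.DenseExt2.base_eq (IsHomLift.map (SpBG Scheme.fppfPrecoverage (Over.mk bA)).p a') ha' :)
    have e3 : (c ≫ a').base = f ≫ b.hom := by
      change c.base ≫ a'.base = _
      rw [hc, e2]; exact Category.id_comp _
    refine ⟨_, a, c ≫ a', ha, IsHomLift.of_fac' _ _ _ rfl e0 ?_, Stk.EltObj.hom_ext ?_⟩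
    · change (c ≫ a').base = _
      rw [e3, hb']; simp
    · change a.base ≫ b.hom = (c ≫ a').base
      rw [e3, e1]

variable {𝒳 𝒴 : AlgSt.Cat S}

/-- The criterion for being a gerbe: a classifying stack after an fppf base change. -/
theorem isGerbeOver_iff (h𝒳 : IsAlgStack Scheme.fppfPrecoverage 𝒳) (h𝒴 : IsAlgStack Scheme.fppfPrecoverage 𝒴)
    (π : 𝒳 ⥤ᵇ 𝒴) :
    Gerb.IsGerbeOver (QuotSh.J Scheme.fppfPrecoverage S) π ↔
      ∃ (U : AlgSp.Space S) (G : Over U.obj) (_ : GrpObj G),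
        AlgSp.IsAlgSpace G.left ∧ LocP @Flat G.hom ∧ LocP @LocallyOfFinitePresentation G.hom ∧
        ∃ u : ofSp U.obj ⥤ᵇ 𝒴,
          RepByAlgSpWith (LocP @Flat) u ∧
          RepByAlgSpWith (LocP @LocallyOfFinitePresentation) u ∧
          RepByAlgSpWith AlgSp.IsSurjectiveMor u ∧
          ∃ e : SpBG Scheme.fppfPrecoverage G ⥤ᵇ fp u π,
            IsEquivOver e ∧
            Nonempty (BasedFunctor.comp e (fpFst u π) ≅
              W4stkstmgerbes.spQuotToBase Scheme.fppfPrecoverage G (trivGAction G)) := by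
  have hfX := h𝒳.isStack.1
  have hfY := h𝒴.isStack.1
  constructor
  · intro hπ
    obtain ⟨W, a, ha, ha'⟩ := h𝒳.atlas
    obtain ⟨h1, h2⟩ := Lib.Gerbe.Diag.locQ_flat_lfp h𝒳 h𝒴 π hπ
    have h3 := Lib.Gerbe.Surj.surjective hfX hfY π hπ.1
    let U : AlgSp.Space S := ⟨(yon S).obj W, AlgSp.IsAlgSpace.yon_obj W⟩
    let a' : ofSp U.obj ⥤ᵇ 𝒳 := BasedFunctor.comp (toOverCat W) a
    let u : ofSp U.obj ⥤ᵇ 𝒴 := BasedFunctor.comp a' π
    have hu : ∀ {P : MorphismProperty (Sp S)}, RepByAlgSpWith P (BasedFunctor.comp a π) → RepByAlgSpWith P u :=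
      fun h => (Lib.AlgStack.Rep.repByAlgSpWith_iff_of_isEquivOver (f := BasedFunctor.comp a π) (f' := u)
        (Lib.AlgStack.Rep.isEquivOver_toOverCat W) isEquivOver_id (Iso.refl _)).1 h
    have hU := Lib.AlgStack.IsAlg.isAlgStack_ofSp U
    have hP := H14.Chart.Basic.isAlgStack_fp h𝒴 hU h𝒳 u π
    have hg := Formal.isGerbeOver_fpFst (QuotSh.J Scheme.fppfPrecoverage S) u hfX hfY hU.isStack.1 hπ
    let x : ofSp U.obj ⥤ᵇ fp u π := fpLift (BasedFunctor.id (ofSp U.obj)) a' (Iso.refl _)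
    obtain ⟨G, gG, hG1, hG2, hG3, e, he, hα⟩ := exists_spBG hP U (fpFst u π) hg x (Iso.refl _)
    exact ⟨U, G, gG, hG1, hG2, hG3, u,
      hu (H14.Chart.LocQ.rep_chart_comp_locP Lib.SourceDescent.Scheme.flat H14.Chart.SmLocal.isSmoothLocalST_flat
        (fun _ _ g (hg : Smooth g) => by infer_instance) h𝒳 h𝒴 h1 ha),
      hu (H14.Chart.LocQ.rep_chart_comp_locP Lib.SourceDescent.Scheme.locallyOfFinitePresentation
        H14.Chart.SmLocal.isSmoothLocalST_lfp (fun _ _ g (hg : Smooth g) => by infer_instance) h𝒳 h𝒴 h2 ha),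
      hu (H14.Chart.Points.rep_of_isSurjective hfY (Lib.AlgStack.Yoneda.isFibGrpd_overCat W)
        (H14.Chart.LocQ.repByAlgSp1_chart h𝒴 _)
        (H14.Chart.LocQ.surjective_comp (H14.Chart.Points.isSurjective_of_rep hfX ha') h3)),
      e, he, hα⟩
  · rintro ⟨U, G, gG, hG, -, -, u, hu1, hu2, hu3, e, he, ⟨α⟩⟩
    let A : AlgSp.Space S := ⟨G.left, hG⟩
    have hU := Lib.AlgStack.IsAlg.isAlgStack_ofSp U
    have hP := H14.Chart.Basic.isAlgStack_fp h𝒴 hU h𝒳 u π
    let _ : GrpObj (Over.mk (show A.obj ⟶ U.obj from G.hom)) := gG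
    have hT : Gerb.IsGerbeOver (QuotSh.J Scheme.fppfPrecoverage S)
        (W4stkstmgerbes.spQuotToBase Scheme.fppfPrecoverage G (trivGAction G)) :=
      isGerbeOver_toBase (A := A) (B := U.obj) G.hom
    obtain ⟨e', he', -, ⟨ε⟩⟩ := IsEquivOver.exists_inverse he
    have hB : IsFibGrpd (SpBG Scheme.fppfPrecoverage G).p :=
      (Lib.SpQuot.isStack : Stk.IsStack (AlgSp.J S) (SpBG Scheme.fppfPrecoverage G)).1
    have hg : Gerb.IsGerbeOver (QuotSh.J Scheme.fppfPrecoverage S) (fpFst u π) :=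
      isGerbeOver_of_iso _ (isoWhiskerLeft e' α.symm ≪≫ isoWhiskerRight ε (fpFst u π)) hP.isStack.1
        (Formal.isGerbeOver_comp _ hP.isStack.1 hB
          (Lib.Gerbe.Formal.isGerbeOver_of_isEquivOver _ hP.isStack.1 he') hT)
    exact Lib.Gerbe.Formal.isGerbeOver_of_locSurjObj _ hfX hfY hU.isStack.1 hP.isStack.1 (fpIso u π)
      (isEquivOver_id (𝒳 := fp u π))
      (Lib.Gerbe.Criterion.locSurjObj_of_rep hU.isStack.1 hfY hu1 hu2 hu3) hg

end Groth.Agent.H14.SpGerbe
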