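import Groth.Agent.H14.SpGerbe.Group
import Groth.Agent.H14.SpGerbe.DenseTau
import Groth.Agent.Lib.SpQuot.Triv
import Groth.Agent.Lib.SpQuot.Stack
import Groth.Agent.Lib.Gerbe.SectionOverSpace
import Groth.Agent.Lib.AlgSpFpqc.LocP
import Groth.Agent.Lib.AlgSpFpqc.FppfCover
import Groth.Prelude.Def_W4stkstmgerbesQuotBase

/-!
# A gerbe over a space with a section is a classifying stack
-/

set_option autoImplicit false
set_option backward.isDefEq.respectTransparency false
set_option backward.isDefEq.respectTransparency.types false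

universe u

open CategoryTheory CategoryTheory.Limits MonoidalCategory CartesianMonoidalCategory AlgebraicGeometry Opposite
open scoped MonObj

noncomputable section

namespace Groth.Agent.H14.SpGerbe

open Groth.Agent.Lib.AlgSpace
open Groth.Agent.Lib.AlgStack.BasedBasic
open Groth.Agent.Lib.Fibred.Descent (exists_factor ext_lift)
open Groth.Agent.Lib.Fibred.StackLemmas (isIso_of_vertical)
open Groth.Agent.Lib.SpQuot (trivObj ofPoint point)
open FibCat (IsEquivOver IsFibGrpd fp fpFst)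
open AlgSt (ofSp ofSpMap SpBG trivGAction bHom RepByAlgSpWith)
open AlgSp (Sp yon LocP)

variable {S : Scheme.{u}} {𝒳 : AlgSt.Cat S} {B : Sp S} {x : ofSp B ⥤ᵇ 𝒳} {π : 𝒳 ⥤ᵇ ofSp B}
  (ex : BasedFunctor.comp x π ≅ BasedFunctor.id (ofSp B))
  {A : AlgSp.Space S} {bA : A.obj ⟶ B} {t : ofSp A.obj ⥤ᵇ fp x x}
  (β : BasedFunctor.comp t (fpFst x x) ≅ ofSpMap bA) (h : IsFibGrpd 𝒳.p) (hE : IsEquivOver t)

section triv

variable (bA) [GrpObj (Over.mk bA)]

/-- The trivial torsor on a point. -/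
abbrev triv {V : Over S} (b : (yon S).obj V ⟶ B) :
    (SpBG Scheme.fppfPrecoverage (Over.mk bA)).obj :=
  trivObj Scheme.fppfPrecoverage (trivGAction (Over.mk bA)) (toUnit (Over.mk b))

variable {bA}

/-- The element of the group of a morphism of trivial torsors. -/
def coef {V' V : Over S} {b' : (yon S).obj V' ⟶ B} {b : (yon S).obj V ⟶ B}
    (a : triv bA b' ⟶ triv bA b) : Over.mk b' ⟶ Over.mk bA :=
  point a ≫ fst (Over.mk bA) (Over.mk b)

theorem point_eq {V' V : Over S} {b' : (yon S).obj V' ⟶ B} {b : (yon S).obj V ⟶ B}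
    (a : triv bA b' ⟶ triv bA b) : point a = lift (coef a) (bHom a.base a.wb) := by
  apply CartesianMonoidalCategory.hom_ext
  · exact (lift_fst _ _).symm
  · exact (Groth.Agent.Lib.SpQuot.point_π a).trans (lift_snd _ _).symm

theorem triv_ext {V' V : Over S} {b' : (yon S).obj V' ⟶ B} {b : (yon S).obj V ⟶ B}
    {a a' : triv bA b' ⟶ triv bA b} (hb : a.base = a'.base) (hc : coef a = coef a') : a = a' := by
  apply Groth.Agent.Lib.SpQuot.hom_ext_of_point
  rw [point_eq a, point_eq a', hc]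
  congr 1
  exact Over.OverMorphism.ext (congrArg (yon S).map hb)

theorem exists_hom {V' V : Over S} {b' : (yon S).obj V' ⟶ B} {b : (yon S).obj V ⟶ B} (u : V' ⟶ V)
    (wb : (yon S).map u ≫ b = b') (c : Over.mk b' ⟶ Over.mk bA) :
    ∃ a : triv bA b' ⟶ triv bA b, a.base = u ∧ coef a = c := by
  refine ⟨ofPoint (A := triv bA b) u wb (lift c (bHom u wb)) (lift_snd _ _) (toUnit_unique _ _), rfl, ?_⟩
  rw [coef, Groth.Agent.Lib.SpQuot.point_ofPoint]
  exact lift_fst _ _

theorem coef_id {V : Over S} (b : (yon S).obj V ⟶ B) : coef (𝟙 (triv bA b)) = 1 := by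
  change (lift 1 (𝟙 (Over.mk b)) ≫ 𝟙 _) ≫ fst _ _ = 1
  rw [Category.comp_id, lift_fst]

theorem coef_comp {V'' V' V : Over S} {b'' : (yon S).obj V'' ⟶ B} {b' : (yon S).obj V' ⟶ B}
    {b : (yon S).obj V ⟶ B} (a : triv bA b'' ⟶ triv bA b') (n : triv bA b' ⟶ triv bA b) :
    coef (a ≫ n) = coef a * (bHom (b := b'') (b' := b') a.base a.wb ≫ coef n) := by
  rw [coef, Groth.Agent.Lib.SpQuot.point_comp, Groth.Agent.Lib.SpQuot.top_eq n, point_eq a, point_eq n]
  change (lift _ _ ≫ (Over.mk bA ◁ lift _ _) ≫ (AlgSt.spLeftMul (Over.mk bA) (Over.mk b)).act) ≫ fst _ _ = _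
  rw [lift_whiskerLeft_assoc, comp_lift, Groth.Agent.Lib.SpQuot.lift_leftMul, lift_fst]

theorem exists_loc (o : (SpBG Scheme.fppfPrecoverage (Over.mk bA)).obj) :
    ∃ Sv ∈ AlgSp.J S o.base, ∀ ⦃W : Over S⦄ (f : W ⟶ o.base), Sv f →
      ∃ a : triv bA ((yon S).map f ≫ o.b) ⟶ o, (SpBG Scheme.fppfPrecoverage (Over.mk bA)).p.IsHomLift f a := by
  obtain ⟨R, hR, hs⟩ := o.loc
  refine ⟨(Sieve.overEquiv o.base).symm (Sieve.generate R), ?_, fun W f hf => ?_⟩
  · rw [AlgSp.J_eq, GrothendieckTopology.mem_over_iff]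
    rw [OrderIso.apply_symm_apply]
    exact Precoverage.generate_mem_toGrothendieck hR
  obtain ⟨W₀, k, r, hr, hk⟩ := (Sieve.overEquiv_symm_iff (Sieve.generate R) f).1 hf
  obtain ⟨s, hs'⟩ := hs r hr
  let k' : W ⟶ Over.mk (r ≫ o.base.hom) := Over.homMk k (by
    change k ≫ r ≫ o.base.hom = W.hom
    rw [reassoc_of% hk]; exact Over.w f)
  have hk' : k' ≫ Over.homMk r = f := Over.OverMorphism.ext hk
  let s' : (yon S).obj W ⟶ o.P.left := (yon S).map k' ≫ s
  have hsπ : s' ≫ o.π.left = (yon S).map f := by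
    rw [Category.assoc, hs', ← Functor.map_comp, hk']
  let sO : Over.mk ((yon S).map f ≫ o.b) ⟶ o.P :=
    Over.homMk s' (by
      rw [← Over.w o.π, ← Category.assoc]
      exact congrArg (· ≫ o.b) hsπ)
  exact ⟨ofPoint (A := o) f rfl sO (Over.OverMorphism.ext hsπ) (toUnit_unique _ _),
    IsHomLift.map (SpBG Scheme.fppfPrecoverage (Over.mk bA)).p (ofPoint (A := o) f rfl sO (Over.OverMorphism.ext hsπ) (toUnit_unique _ _))⟩

theorem base_of_lift {V' V : Over S} {b' : (yon S).obj V' ⟶ B} {b : (yon S).obj V ⟶ B} {u : V' ⟶ V}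
    {a : triv bA b' ⟶ triv bA b} (hu : (SpBG Scheme.fppfPrecoverage (Over.mk bA)).p.IsHomLift u a) :
    a.base = u :=
  (Lib.Fibred.DenseExt2.base_eq (IsHomLift.map (SpBG Scheme.fppfPrecoverage (Over.mk bA)).p a) hu :)

end triv

theorem ev_lift {V : Over S} {b : (yon S).obj V ⟶ B} (g : Over.mk b ⟶ Over.mk bA) :
    𝒳.p.IsHomLift (𝟙 V) (ev ex β h g).hom.1 :=
  lift_of_eq (x.w_obj (el b)) _ (ev ex β h g).hom.2

theorem elMap_lift {V' V : Over S} {b' : (yon S).obj V' ⟶ B} {b : (yon S).obj V ⟶ B} (u : V' ⟶ V)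
    (wb : (yon S).map u ≫ b = b') : 𝒳.p.IsHomLift u (x.map (elMap u wb)) :=
  have : (ofSp B).p.IsHomLift u (elMap u wb) := IsHomLift.map (ofSp B).p (elMap u wb)
  BasedFunctor.preserves_isHomLift x u _

section data

variable [GrpObj (Over.mk bA)]
  (hmul : ∀ {V : Over S} {b : (yon S).obj V ⟶ B} (g g' : Over.mk b ⟶ Over.mk bA),
    ev ex β h (g * g') = ev ex β h g * ev ex β h g')

/-- The image of a morphism of trivial torsors. -/
def mapM {V' V : Over S} {b' : (yon S).obj V' ⟶ B} {b : (yon S).obj V ⟶ B}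
    (a : triv bA b' ⟶ triv bA b) : x.obj (el b') ⟶ x.obj (el b) :=
  (ev ex β h (coef a)⁻¹).hom.1 ≫ x.map (elMap a.base a.wb)

theorem mapM_lift {V' V : Over S} {b' : (yon S).obj V' ⟶ B} {b : (yon S).obj V ⟶ B}
    (a : triv bA b' ⟶ triv bA b) : 𝒳.p.IsHomLift a.base (mapM ex β h a) :=
  have := ev_lift ex β h (coef a)⁻¹
  have := elMap_lift (x := x) (b' := b') (b := b) a.base a.wb
  IsHomLift.comp_lift_id_left' (p := 𝒳.p) V' (ev ex β h (coef a)⁻¹).hom.1 a.base (x.map (elMap (b' := b') (b := b) a.base a.wb))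

include hmul in
theorem ev_one {V : Over S} (b : (yon S).obj V ⟶ B) : ev ex β h (1 : Over.mk b ⟶ Over.mk bA) = 1 :=
  map_one (MonoidHom.mk' (ev ex β h (b := b)) hmul)

/-- The dense family of trivial torsors. -/
def data : Lib.Fibred.DenseExt2.Data (SpBG Scheme.fppfPrecoverage (Over.mk bA)) 𝒳 where
  «ι» V := (yon S).obj V ⟶ B
  z b := triv bA b
  w b := x.obj (el b)
  hz _ := rfl
  hw b := x.w_obj (el b)
  ex {V' V} u b := by
    obtain ⟨a, ha, -⟩ := exists_hom (bA := bA) u (b := b) (b' := (yon S).map u ≫ b) rfl 1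
    exact ⟨(yon S).map u ≫ b, a, (congrArg (fun w => (SpBG Scheme.fppfPrecoverage (Over.mk bA)).p.IsHomLift w a) ha).mp
      (IsHomLift.map (SpBG Scheme.fppfPrecoverage (Over.mk bA)).p a)⟩
  M a := mapM ex β h a
  lifts u _ _ a hu := base_of_lift hu ▸ mapM_lift ex β h a
  map_id {V} b := by
    rw [mapM, coef_id, inv_one, ev_one ex β h hmul]
    change 𝟙 _ ≫ _ = _
    rw [Category.id_comp]
    refine (congrArg x.map (?_ : elMap _ _ = 𝟙 (el b))).trans (x.toFunctor.map_id _)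
    exact Stk.EltObj.hom_ext rfl
  map_comp {V'' V' V b'' b' b} a n := by
    have e : elMap (a ≫ n).base (a ≫ n).wb = elMap a.base a.wb ≫ elMap n.base n.wb :=
      Stk.EltObj.hom_ext rfl
    have hn := ev_natural ex β h a.base a.wb (coef n)⁻¹
    rw [GrpObj.comp_inv] at hn
    rw [mapM, mapM, mapM, coef_comp, mul_inv_rev, hmul, e, Functor.map_comp]
    change ((ev ex β h (coef a)⁻¹).hom.1 ≫ (ev ex β h (bHom (b := b'') (b' := b') a.base a.wb ≫ coef n)⁻¹).hom.1) ≫ _ = _
    rw [Category.assoc, reassoc_of% hn, Category.assoc]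
  bij {V' V b' b} := by
    refine ⟨fun a a' e => ?_, fun m => ?_⟩
    · have hb : a.base = a'.base := Lib.Fibred.DenseExt2.base_eq (mapM_lift ex β h a)
        (by rw [show mapM ex β h a = mapM ex β h a' from e]; exact mapM_lift ex β h a')
      refine triv_ext hb (inv_injective ?_)
      have e' : (ev ex β h (coef a)⁻¹).hom.1 = (ev ex β h (coef a')⁻¹).hom.1 :=
        ext_lift h (x.map (elMap a.base a.wb)) (elMap_lift a.base a.wb) (ev_lift ex β h _) (ev_lift ex β h _)
          (by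
            have e2 : mapM ex β h a = mapM ex β h a' := e
            have e3 : elMap a'.base a'.wb = elMap a.base a.wb := Stk.EltObj.hom_ext hb.symm
            rw [mapM, mapM, e3] at e2
            exact e2)
      exact (ev_bijective ex β h hE b').1 (Aut.ext (Functor.Fiber.hom_ext e'))
    · let u : V' ⟶ V := eqToHom (x.w_obj (el b')).symm ≫ 𝒳.p.map m ≫ eqToHom (x.w_obj (el b))
      have hm : 𝒳.p.IsHomLift u m := IsHomLift.of_fac' _ _ _ (x.w_obj _) (x.w_obj _) (by simp [u])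
      let n : el b' ⟶ el b := (appIso ex (el b')).inv ≫ π.map m ≫ (appIso ex (el b)).hom
      have hn : n.hom = u := by
        have i1 : (ofSp B).p.IsHomLift (𝟙 V') (appIso ex (el b')).hom := appIso_isHomLift ex (el b')
        have i2 : (ofSp B).p.IsHomLift (𝟙 V') (appIso ex (el b')).inv := IsHomLift.lift_id_inv _ _ _
        have i3 : (ofSp B).p.IsHomLift (𝟙 V) (appIso ex (el b)).hom := appIso_isHomLift ex (el b)
        have i4 : (ofSp B).p.IsHomLift u (π.map m) := BasedFunctor.preserves_isHomLift π u m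
        have i5 : (ofSp B).p.IsHomLift u n := inferInstance
        exact Lib.Fibred.DenseExt2.base_eq (IsHomLift.map (ofSp B).p n) i5
      have wb : (yon S).map u ≫ b = b' := by
        rw [← hn]
        apply (secEquiv V').injective
        exact (secEquiv_map n.hom b).trans n.map_sec
      obtain ⟨θ, hθ, eθ⟩ := exists_factor h (x.map (elMap u wb)) (elMap_lift u wb) m hm
      have hθ' : 𝒳.p.map θ = 𝟙 _ := by
        rw [IsHomLift.fac' 𝒳.p (𝟙 V') θ]; simp
      obtain ⟨c, hc⟩ := (ev_bijective ex β h hE b').2 (Stab.mkAut h θ hθ')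
      obtain ⟨a, ha, ha'⟩ := exists_hom u wb c⁻¹
      refine ⟨a, ?_⟩
      change mapM ex β h a = m
      have e3 : elMap a.base a.wb = elMap u wb := Stk.EltObj.hom_ext ha
      rw [mapM, ha', inv_inv, hc, e3]
      exact eθ

end data

/-- A gerbe over a space with a section is a classifying stack. -/
theorem exists_spBG (h𝒳 : AlgSt.IsAlgStack Scheme.fppfPrecoverage 𝒳) (U : AlgSp.Space S)
    (π : 𝒳 ⥤ᵇ ofSp U.obj) (hπ : Gerb.IsGerbeOver (QuotSh.J Scheme.fppfPrecoverage S) π)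
    (x : ofSp U.obj ⥤ᵇ 𝒳) (ex : BasedFunctor.comp x π ≅ BasedFunctor.id (ofSp U.obj)) :
    ∃ (G : Over U.obj) (_ : GrpObj G),
      AlgSp.IsAlgSpace G.left ∧ LocP @Flat G.hom ∧ LocP @LocallyOfFinitePresentation G.hom ∧
      ∃ e : SpBG Scheme.fppfPrecoverage G ⥤ᵇ 𝒳,
        IsEquivOver e ∧
        Nonempty (BasedFunctor.comp e π ≅
          W4stkstmgerbes.spQuotToBase Scheme.fppfPrecoverage G (trivGAction G)) := by
  have h := h𝒳.isStack.1
  obtain ⟨hx1, hx2, -⟩ := Lib.Gerbe.SectionOverSpace.result π h𝒳 hπ x ex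
  have eF := Lib.SourceDescent.Scheme.flat.{u}
  have eP := Lib.SourceDescent.Scheme.locallyOfFinitePresentation.{u}
  let P : MorphismProperty (Sp S) := LocP @Flat ⊓ LocP @LocallyOfFinitePresentation
  have hP : Lib.AlgStack.Space.RespectsIsoSp P :=
    Lib.AlgStack.Space.respectsIsoSp_of_baseChange
      (Sep.SpProps.stableBC_inf (Sep.SpProps.stableBC_locP eF) (Sep.SpProps.stableBC_locP eP))
  have hl : AlgSp.IsLocalOnBase AlgSp.IsFppfCover P :=
    fun _ Y Yi g hY hYi hg Z f hZ Xi p q hXi sq => by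
      have h1 := Lib.AlgSpFpqc.LocP.isLocalOnBase eF inferInstance inferInstance Yi g hY hYi
        (Lib.AlgSpFpqc.FppfCover.isFpqcCover hg hY hYi) f hZ Xi p q hXi sq
      have h2 := Lib.AlgSpFpqc.LocP.isLocalOnBase eP inferInstance inferInstance Yi g hY hYi
        (Lib.AlgSpFpqc.FppfCover.isFpqcCover hg hY hYi) f hZ Xi p q hXi sq
      exact ⟨fun h i => ⟨h1.1 h.1 i, h2.1 h.2 i⟩, fun h => ⟨h1.2 fun i => (h i).1, h2.2 fun i => (h i).2⟩⟩
  have hx : RepByAlgSpWith P x := fun V y => by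
    obtain ⟨F, e, he, hF⟩ := hx1 V y
    exact ⟨F, e, he, hF, Lib.AlgStack.Space.prop_of_rep
      (Lib.AlgStack.Space.respectsIsoSp_of_baseChange (Sep.SpProps.stableBC_locP eP)) hx2 F.property he⟩
  obtain ⟨A, bA, t, hE, ⟨β⟩, hb⟩ := Lib.AlgStack.Comp.exists_rep_toSpace_prop hP hl
    (Stk.isFibGrpd_ofPsh U.obj.obj) h hx U x
  let G : Over U.obj := Over.mk bA
  let gG : GrpObj (Over.mk bA) := grpObj ex β h hE
  let D := data ex β h hE (fun g g' => ev_mul ex β h hE g g')
  have hB : Stk.IsStack (AlgSp.J S) (SpBG Scheme.fppfPrecoverage G) := Lib.SpQuot.isStack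
  obtain ⟨e, he, hτ⟩ := exists_isEquivOver_tau D (AlgSp.J S) hB h𝒳.isStack (fun o => by
      obtain ⟨Sv, hSv, hs⟩ := exists_loc (bA := bA) o
      refine (AlgSp.J S).superset_covering (fun W f hf => ?_) hSv
      obtain ⟨a, ha⟩ := hs f hf
      exact ⟨(yon S).map f ≫ o.b, a, ha⟩)
    (fun y => by
      let u := π.obj y
      have e1 : 𝒳.p.obj (x.obj u) = u.base := x.w_obj u
      have e2 : u.base = 𝒳.p.obj y := π.w_obj y
      have hb : (ofSp U.obj).p.IsHomLift (𝟙 (𝒳.p.obj (x.obj u))) (appIso ex u).hom := by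
        have i1 : (ofSp U.obj).p.IsHomLift (𝟙 u.base) (appIso ex u).hom := appIso_isHomLift ex u
        rw [e1]; exact i1
      obtain ⟨R, hR, hl⟩ := hπ.2 (x.obj u) y (appIso ex u).hom hb
      refine ⟨R.pullback (eqToHom (e1.trans e2).symm), (AlgSp.J S).pullback_stable _ hR, fun V f hf => ?_⟩
      obtain ⟨x₀, φ, ψ, hφ, hψ, -⟩ := hl (f ≫ eqToHom (e1.trans e2).symm) hf
      let f' : V ⟶ u.base := f ≫ eqToHom e2.symm
      let k : el ((yon S).map f' ≫ sy u) ⟶ u :=
        ⟨f', ((congrArg (fun s => U.obj.obj.map f'.op s) ((secEquiv u.base).apply_symm_apply u.sec)).symm.trans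
          (secEquiv_map f' (sy u)).symm)⟩
      have hk : 𝒳.p.IsHomLift (f ≫ eqToHom (e1.trans e2).symm) (x.map k) :=
        IsHomLift.of_fac' _ _ _ (x.w_obj _) rfl (by
          rw [show 𝒳.p.map (x.map k) = eqToHom (x.w_obj _) ≫ k.hom ≫ eqToHom (x.w_obj _).symm from
            CategoryTheory.Functor.congr_hom x.w k]
          simp [k, f'])
      obtain ⟨θ, hθ, -⟩ := exists_factor h φ hφ (x.map k) hk
      refine ⟨(yon S).map f' ≫ sy u, θ ≫ ψ, ?_⟩
      have i2 : 𝒳.p.IsHomLift (𝟙 V ≫ (f ≫ eqToHom (e1.trans e2).symm)) (θ ≫ ψ) := inferInstance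
      have hd := IsHomLift.fac' 𝒳.p (𝟙 V ≫ (f ≫ eqToHom (e1.trans e2).symm)) (θ ≫ ψ)
      refine IsHomLift.of_fac' _ _ _ (x.w_obj _) rfl ?_
      rw [hd]
      simp)
  refine ⟨G, gG, A.property, hb.1, hb.2, e, he, ?_⟩
  let T := W4stkstmgerbes.spQuotToBase Scheme.fppfPrecoverage G (trivGAction G)
  let F := BasedFunctor.comp e π
  have key : ∀ o, (yon S).map (eqToHom (F.w_obj o)) ≫ o.b = sy (F.obj o) := fun o => by
    rw [← cancel_epi ((yon S).map (eqToHom (F.w_obj o).symm)), ← Category.assoc, ← Functor.map_comp,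
      eqToHom_trans, eqToHom_refl, CategoryTheory.Functor.map_id, Category.id_comp]
    obtain ⟨Sv, hSv, hs⟩ := exists_loc (bA := bA) o
    refine Lib.SpQuot.hom_ext_of_sieve hSv fun W f hf => ?_
    obtain ⟨a, ha⟩ := hs f hf
    obtain ⟨m, hm⟩ := hτ (i := (yon S).map f ≫ o.b) f a ha
    let n : el ((yon S).map f ≫ o.b) ⟶ F.obj o := (appIso ex _).inv ≫ π.map m
    have hn : n.hom = f ≫ eqToHom (F.w_obj o).symm := by
      have i1 : (ofSp U.obj).p.IsHomLift (𝟙 W) (appIso ex (el ((yon S).map f ≫ o.b))).hom :=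
        appIso_isHomLift ex (el ((yon S).map f ≫ o.b))
      have i2 : (ofSp U.obj).p.IsHomLift (𝟙 W) (appIso ex (el ((yon S).map f ≫ o.b))).inv :=
        IsHomLift.lift_id_inv _ _ _
      have i3 : (ofSp U.obj).p.IsHomLift f (π.map m) := BasedFunctor.preserves_isHomLift π f m
      have i4 : (ofSp U.obj).p.IsHomLift f n := inferInstance
      have := IsHomLift.fac' (ofSp U.obj).p f n
      change n.hom = _ at this
      rw [this]; simp
    have h' := sy_map n
    rw [hn, Functor.map_comp, Category.assoc] at h'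
    exact (h'.trans ((secEquiv W).symm_apply_apply _)).symm
  let c : ∀ o, F.obj o ⟶ T.obj o := fun o =>
    ⟨eqToHom (F.w_obj o), by
      have := congrArg (secEquiv _) (key o)
      erw [secEquiv_map, Equiv.apply_symm_apply] at this
      exact this⟩
  let c' : ∀ o, T.obj o ⟶ F.obj o := fun o =>
    ⟨eqToHom (F.w_obj o).symm, by
      rw [← (c o).map_sec, ← Functor.map_comp_apply, ← op_comp]
      rw [show eqToHom (F.w_obj o).symm ≫ (c o).hom = 𝟙 (T.obj o).base from eqToHom_trans (F.w_obj o).symm (F.w_obj o),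
        op_id, CategoryTheory.Functor.map_id]
      rfl⟩
  refine ⟨BasedNatIso.mkNatIso (NatIso.ofComponents
    (fun o => ⟨c o, c' o, Stk.EltObj.hom_ext (by simp [c, c']), Stk.EltObj.hom_ext (by simp [c, c'])⟩)
    fun {o o'} f => ?_) fun o => ?_⟩
  · apply Stk.EltObj.hom_ext
    change (F.map f).hom ≫ eqToHom (F.w_obj o') = eqToHom (F.w_obj o) ≫ f.base
    have hF : (F.map f).hom = eqToHom (F.w_obj o) ≫ f.base ≫ eqToHom (F.w_obj o').symm :=
      CategoryTheory.Functor.congr_hom F.w f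
    rw [hF]; simp
  · refine IsHomLift.of_fac' _ _ _ (F.w_obj o) rfl ?_
    change eqToHom (F.w_obj o) = _
    simp

end Groth.Agent.H14.SpGerbe
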